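import Groth.Agent.MP99.Basic
import Groth.Agent.Div89.Cartier
import Mathlib.AlgebraicGeometry.Morphisms.SchemeTheoreticallyDominant

/-!
The strict transform of a closed subscheme is its blow-up.
-/

universe u

open CategoryTheory CategoryTheory.Limits AlgebraicGeometry TopologicalSpace

namespace Groth.Agent.H98Strict

set_option maxHeartbeats 400000
set_option backward.isDefEq.respectTransparency.types false

/-- The complement of an effective Cartier divisor is scheme-theoretically dense. -/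
theorem dominant_compl {Y : Scheme.{u}} {I : Y.IdealSheafData} (hI : BlowUp.IsEffCartierIdeal I) :
    IsSchemeTheoreticallyDominant (Scheme.Opens.ι (X := Y) I.support.compl) ∧
      IsAffineHom (Scheme.Opens.ι (X := Y) I.support.compl) := by
  have haff := Div89.isAffineHom_compl_support fun y => by
    obtain ⟨V, hy, f, -, hf⟩ := hI y
    exact ⟨V, hy, f, hf⟩
  refine ⟨⟨?_⟩, haff⟩
  refine Scheme.IdealSheafData.ext (funext fun V => ?_)
  rw [Scheme.Hom.ker_apply, Scheme.IdealSheafData.ideal_bot, Pi.bot_apply, ← RingHom.injective_iff_ker_eq_bot]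
  rw [injective_iff_map_eq_zero]
  intro s hs
  refine Div89.res_injective_compl_support hI V.1 ?_
  rw [map_zero]
  let O : Y.Opens := I.support.compl
  rw [Scheme.Opens.ι_app] at hs
  have h : V.1 ⊓ O ≤ O.ι ''ᵁ (O.ι ⁻¹ᵁ V.1) := by
    rw [Scheme.Hom.image_preimage_eq_opensRange_inf, Scheme.Opens.opensRange_ι, inf_comm]
  have key : (Y.presheaf.map (homOfLE (inf_le_left : V.1 ⊓ O ≤ V.1)).op).hom s =
      (Y.presheaf.map (homOfLE h).op).hom ((Y.presheaf.map (homOfLE (Set.image_preimage_subset _ _)).op).hom s) := by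
    rw [← CommRingCat.comp_apply, ← Functor.map_comp]
    rfl
  refine key.trans ?_
  erw [hs]
  exact map_zero _

/-- The blow-up of `V(J)` embeds as the closure of `V(J)` off the centre. -/
theorem strictTransform {X X' Z' : Scheme.{u}} (I J : X.IdealSheafData) (b : X' ⟶ X)
    (hb : BlowUp.IsBlowUp b I) (b' : Z' ⟶ J.subscheme) (hb' : BlowUp.IsBlowUp b' (I.comap J.subschemeι))
    (k : Z' ⟶ X') (hk : k ≫ b = b' ≫ J.subschemeι) :
    IsClosedImmersion k ∧
      IsAffineHom ((k ⁻¹ᵁ (b ⁻¹ᵁ I.support.compl)).ι ≫ k) ∧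
      ((k ⁻¹ᵁ (b ⁻¹ᵁ I.support.compl)).ι ≫ k).ker = k.ker := by
  obtain ⟨hXd, hXa⟩ := dominant_compl hb.1
  obtain ⟨hZd, hZa⟩ := dominant_compl hb'.1
  have hE : (I.comap b).support.compl = b ⁻¹ᵁ I.support.compl := by
    rw [Scheme.IdealSheafData.support_comap]; rfl
  have hE' : ((I.comap J.subschemeι).comap b').support.compl = k ⁻¹ᵁ (b ⁻¹ᵁ I.support.compl) := by
    rw [← Scheme.IdealSheafData.comap_comp, ← hk, Scheme.IdealSheafData.comap_comp,
      Scheme.IdealSheafData.support_comap, Scheme.IdealSheafData.support_comap]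
    rfl
  rw [hE] at hXd hXa
  rw [hE'] at hZd hZa
  set Eo := b ⁻¹ᵁ I.support.compl
  let j : pullback J.subschemeι (Eo.ι ≫ b) ⟶ X' := pullback.snd J.subschemeι (Eo.ι ≫ b) ≫ Eo.ι
  have : IsAffineHom j := inferInstance
  let T := j.image
  let ιT : T ⟶ X' := j.imageι
  have hjb : j ≫ b = pullback.fst J.subschemeι (Eo.ι ≫ b) ≫ J.subschemeι := by
    simp only [j, Category.assoc, pullback.condition]
  have hkT : ιT.ker = j.ker := Scheme.IdealSheafData.ker_subschemeι _
  -- `T` lies over `V(J)`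
  have hJT : J.subschemeι.ker ≤ (ιT ≫ b).ker := by
    rw [← Scheme.IdealSheafData.map_ker, hkT, Scheme.IdealSheafData.map_ker, hjb]
    exact Scheme.Hom.le_ker_comp _ _
  let r : T ⟶ J.subscheme := IsClosedImmersion.lift J.subschemeι (ιT ≫ b) hJT
  have hr : r ≫ J.subschemeι = ιT ≫ b := IsClosedImmersion.lift_fac _ _ _
  -- the exceptional ideal stays invertible on `T`
  have : QuasiCompact j.toImage := by
    have h1 : QuasiCompact (j.toImage ≫ ιT) := by
      rw [show j.toImage ≫ ιT = j from Scheme.Hom.toImage_imageι j]; infer_instance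
    exact QuasiCompact.of_comp j.toImage ιT
  have hTE : BlowUp.IsEffCartierIdeal ((I.comap b).comap ιT) := by
    intro t
    obtain ⟨W, hW, e, -, heW⟩ := hb.1 (ιT t)
    let WT : T.affineOpens := ⟨ιT ⁻¹ᵁ W.1, W.2.preimage ιT⟩
    refine ⟨WT, hW, (ιT.app W.1).hom e, ?_, ?_⟩
    · rw [mem_nonZeroDivisors_iff_right]
      intro a ha
      obtain ⟨a', rfl⟩ := ιT.app_surjective (U := W.1) W.2 a
      suffices h0 : (j.app W.1).hom a' = 0 by
        have : a' ∈ ιT.ker.ideal W := by rw [hkT, Scheme.Hom.ker_apply]; exact h0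
        rwa [Scheme.Hom.ker_apply] at this
      have e0 : (j.toImage.app WT.1).hom ((ιT.app W.1).hom a') = 0 → (j.app W.1).hom a' = 0 := by
        intro h0
        rw [Scheme.Hom.congr_app (Scheme.Hom.toImage_imageι j).symm W.1]
        simp only [Scheme.Hom.comp_app, CommRingCat.comp_apply]
        erw [h0]
        exact map_zero _
      refine e0 ?_
      have hu : IsUnit ((j.toImage.app WT.1).hom ((ιT.app W.1).hom e)) := by
        refine RingedSpace.isUnit_of_isUnit_germ _ _ _ fun z hz => ?_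
        refine ((pullback J.subschemeι (Eo.ι ≫ b)).mem_basicOpen _ z hz).1 ?_
        rw [← Scheme.preimage_basicOpen, ← Scheme.preimage_basicOpen]
        change ιT (j.toImage z) ∈ X'.basicOpen e
        rw [← Div89.inter_compl_support_eq_basicOpen heW, hE]
        refine ⟨hz, ?_⟩
        rw [← Scheme.Hom.comp_apply, Scheme.Hom.toImage_imageι]
        exact (pullback.snd J.subschemeι (Eo.ι ≫ b) z).2
      have h := congrArg (j.toImage.app WT.1).hom ha
      rw [map_mul, map_zero] at h
      exact (hu.mul_left_eq_zero).1 h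
    · rw [MP99.ideal_comap _ ιT W WT le_rfl, heW, Ideal.map_span, Set.image_singleton, Scheme.Hom.app_eq_appLE]
  -- the comparison map
  obtain ⟨h, hh, -⟩ := hb'.2 T r (by
    rw [← Scheme.IdealSheafData.comap_comp, hr, Scheme.IdealSheafData.comap_comp]; exact hTE)
  have hker : ((k ⁻¹ᵁ Eo).ι ≫ k).ker = k.ker := by
    rw [← Scheme.IdealSheafData.map_ker, hZd.ker_eq_bot, Scheme.IdealSheafData.map_bot]
  have hle : ιT.ker ≤ k.ker := by
    rw [hkT, ← hker]
    let e : (k ⁻¹ᵁ Eo).toScheme ⟶ pullback J.subschemeι (Eo.ι ≫ b) :=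
      pullback.lift ((k ⁻¹ᵁ Eo).ι ≫ b') (k ∣_ Eo)
        (by rw [Category.assoc, ← hk, morphismRestrict_ι_assoc])
    have he : e ≫ j = (k ⁻¹ᵁ Eo).ι ≫ k := by
      simp only [e, j, pullback.lift_snd_assoc, morphismRestrict_ι]
    rw [← he]
    exact Scheme.Hom.le_ker_comp _ _
  let g : Z' ⟶ T := IsClosedImmersion.lift ιT k hle
  have hg : g ≫ ιT = k := IsClosedImmersion.lift_fac _ _ _
  have hgr : g ≫ r = b' := by
    rw [← cancel_mono J.subschemeι, Category.assoc, hr, ← hk, ← Category.assoc, hg]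
  have h1 : g ≫ h = 𝟙 Z' := (hb'.2 Z' b' hb'.1).unique
    (by rw [Category.assoc, hh, hgr]) (by rw [Category.id_comp])
  have h2 : h ≫ g = 𝟙 T := by
    rw [← cancel_mono ιT, Category.assoc, hg, Category.id_comp]
    refine (hb.2 T (ιT ≫ b) (by rw [Scheme.IdealSheafData.comap_comp]; exact hTE)).unique ?_ rfl
    rw [Category.assoc, hk, ← Category.assoc, hh, hr]
  have : IsIso g := ⟨h, h1, h2⟩
  have hci : IsClosedImmersion k := hg ▸ inferInstanceAs (IsClosedImmersion (g ≫ ιT))
  exact ⟨hci, inferInstance, hker⟩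

end Groth.Agent.H98Strict
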