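import Groth.Agent.H98Strict.Separate
import Groth.Agent.Amp73.IdealNhd

/-!
Admissible blow-ups separating closures, over qcqs schemes.
-/

universe u

open CategoryTheory CategoryTheory.Limits AlgebraicGeometry TopologicalSpace

namespace Groth.Agent.H98Strict

set_option maxHeartbeats 400000
set_option backward.isDefEq.respectTransparency.types false

variable {X : Scheme.{u}}

/-- A closed set with quasi-compact complement is the support of an ideal of finite type. -/
theorem exists_ideal_support [CompactSpace X] [QuasiSeparatedSpace X] (U : X.Opens)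
    (hU : IsCompact (U : Set X)) :
    ∃ I : X.IdealSheafData, BlowUp.IsFiniteTypeIdeal I ∧ (I.support : Set X) = (U : Set X)ᶜ := by
  obtain ⟨I, hI, h1, h2⟩ := Amp73.exists_ideal_nhd U hU
  refine ⟨I, hI, Set.ext fun x => ⟨fun hx hxU => ?_, fun hx => ?_⟩⟩
  · obtain ⟨W, hxW, hW⟩ := Div89.exists_affine_le hxU
    exact (IsLocalRing.mem_maximalIdeal _).1 (germ_mem_of_mem_support I W hxW hx (h2 W hW))
      (by rw [map_one]; exact isUnit_one)
  · rw [SetLike.mem_coe, Scheme.IdealSheafData.mem_support_iff]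
    exact fun W => (Scheme.mem_zeroLocus_iff _ _ _).2 fun a ha hxa => hx (h1 W a ha hxa)

/-- An ideal of finite type vanishing on the support of `M` has a power inside `M`. -/
theorem exists_pow_le [CompactSpace X] {I M : X.IdealSheafData} (hI : BlowUp.IsFiniteTypeIdeal I)
    (h : M.support ≤ I.support) : ∃ n : ℕ, 0 < n ∧ I ^ n ≤ M := by
  classical
  have hrad : I ≤ M.radical := by
    rw [← Scheme.IdealSheafData.vanishingIdeal_support]
    exact Scheme.IdealSheafData.le_support_iff_le_vanishingIdeal.1 h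
  have hW : ∀ W : X.affineOpens, ∃ n : ℕ, I.ideal W ^ n ≤ M.ideal W := fun W =>
    Ideal.exists_pow_le_of_le_radical_of_fg (hrad W) (hI W)
  choose n hn using hW
  obtain ⟨F, hF⟩ := isCompact_univ.elim_finite_subcover (fun W : X.affineOpens => (W.1 : Set X))
    (fun W => W.1.2) fun x _ => by
      obtain ⟨W, hxW, -⟩ := Div89.exists_affine_le (U := ⊤) (x := x) trivial
      exact Set.mem_iUnion.2 ⟨W, hxW⟩
  refine ⟨F.sup n + 1, Nat.succ_pos _, ?_⟩
  refine Scheme.IdealSheafData.le_of_iSup_eq_top (U := fun W : F => W.1) ?_ fun W => ?_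
  · rw [eq_top_iff]
    intro x _
    obtain ⟨W, hWF, hxW⟩ := Set.mem_iUnion₂.1 (hF (Set.mem_univ x))
    exact Opens.mem_iSup.2 ⟨⟨W, hWF⟩, hxW⟩
  · rw [Scheme.IdealSheafData.ideal_pow, Pi.pow_apply]
    exact le_trans (Ideal.pow_le_pow_right ((Finset.le_sup W.2).trans (Nat.le_succ _))) (hn W.1)

/-- The main construction. -/
theorem exists_admissible {X₁ X₂ : Scheme.{u}} [CompactSpace X₁] [QuasiSeparatedSpace X₁]
    [QuasiSeparatedSpace X₂] (q : X₂ ⟶ X₁) (V₁ : X₁.Opens) (hV₁ : IsCompact (V₁ : Set X₁))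
    (U : X₂.Opens) (hU : U ≤ q ⁻¹ᵁ V₁) (Z₁ : Set X₁) (hZ₁ : IsClosed Z₁) (hZ₁c : IsCompact Z₁ᶜ)
    (Z₂ : Set X₂) (hZ₂ : IsClosed Z₂) (hZ₂c : IsCompact Z₂ᶜ)
    (hYZ : (fun x => q x) ⁻¹' (Z₁ ∩ (V₁ : Set X₁)) ⊆ Z₂) :
    ∃ 𝓔 : X₁.IdealSheafData, BlowUp.IsFiniteTypeIdeal 𝓔 ∧ (𝓔.support : Set X₁) ⊆ Z₁ \ (V₁ : Set X₁) ∧
      ∀ (X₁' : Scheme.{u}) (c : X₁' ⟶ X₁), BlowUp.IsBlowUp c 𝓔 →
        (fun z => (pullback.snd q c) z) ⁻¹' closure ((fun x => c x) ⁻¹' (Z₁ ∩ (V₁ : Set X₁))) ∩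
            closure ((fun z => (pullback.fst q c) z) ⁻¹' (U : Set X₂)) ⊆
          (fun z => (pullback.fst q c) z) ⁻¹' Z₂ := by
  let O : X₂.Opens := ⟨Z₂ᶜ, hZ₂.isOpen_compl⟩
  let p : O.toScheme ⟶ X₁ := O.ι ≫ q
  have : CompactSpace O.toScheme := isCompact_iff_compactSpace.1 (show IsCompact (O : Set X₂) from hZ₂c)
  have : QuasiCompact p :=
    quasiCompact_of_compactSpace p
  obtain ⟨A, hAft, hA⟩ := exists_ideal_support ⟨Z₁ᶜ, hZ₁.isOpen_compl⟩ hZ₁c
  obtain ⟨I, hIft, hI⟩ := exists_ideal_support V₁ hV₁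
  replace hA : (A.support : Set X₁) = Z₁ := hA.trans (compl_compl Z₁)
  let K : O.toScheme.IdealSheafData := Scheme.IdealSheafData.vanishingIdeal
    ⟨closure ((O.ι ⁻¹ᵁ U : O.toScheme.Opens) : Set O.toScheme), isClosed_closure⟩
  set M := (A.comap p ⊔ K).map p with hM
  have hMV : M.support ≤ I.support := by
    change (M.support : Set X₁) ⊆ I.support
    rw [hI, hM, Scheme.IdealSheafData.support_map, Closeds.coe_closure]
    -- the closure of the image avoids `V₁`
    refine (closure_minimal ?_ V₁.2.isClosed_compl : closure _ ⊆ (V₁ : Set X₁)ᶜ)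
    rintro _ ⟨z, hz, rfl⟩ hzV
    have hzA : z ∈ (A.comap p).support := Scheme.IdealSheafData.support_antitone le_sup_left hz
    rw [Scheme.IdealSheafData.support_comap] at hzA
    have hzZ : p z ∈ Z₁ := hA.le hzA
    exact z.2 (hYZ (show q (O.ι z) ∈ Z₁ ∩ (V₁ : Set X₁) from ⟨hzZ, hzV⟩))
  obtain ⟨n, hn0, hn⟩ := exists_pow_le hIft hMV
  have hAM : A ≤ M := Scheme.IdealSheafData.le_map_iff_comap_le.2 le_sup_left
  refine ⟨A ⊔ I ^ n, fun W => ?_, ?_, fun X₁' c hc => ?_⟩
  · rw [Scheme.IdealSheafData.ideal_sup, Pi.sup_apply, Scheme.IdealSheafData.ideal_pow, Pi.pow_apply]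
    exact Submodule.FG.sup (hAft W) (Ideal.FG.pow (hIft W))
  · rw [Scheme.IdealSheafData.support_sup, Scheme.IdealSheafData.support_pow I n hn0.ne']
    rintro x ⟨h1, h2⟩
    exact ⟨hA.le h1, hI.le h2⟩
  · rintro z ⟨hzS, hzT⟩
    by_contra hzZ
    let Zo : (pullback q c).Opens := pullback.fst q c ⁻¹ᵁ O
    have hzo : z ∈ Zo := hzZ
    let π' : Zo.toScheme ⟶ O.toScheme := pullback.fst q c ∣_ O
    let p' : Zo.toScheme ⟶ X₁' := Zo.ι ≫ pullback.snd q c
    have hsq : p' ≫ c = π' ≫ p := by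
      simp only [p', π', p, Category.assoc, ← pullback.condition, morphismRestrict_ι_assoc]
      rfl
    have key := inter_closure_eq_empty p c p' π' hsq (A ⊔ I ^ n) A K le_sup_left
      (by
        rw [Scheme.IdealSheafData.comap_sup]
        exact sup_le le_sup_left (Scheme.IdealSheafData.le_map_iff_comap_le.1 hn))
      hc.1 ((fun x => c x) ⁻¹' (Z₁ ∩ (V₁ : Set X₁)))
      (fun w hw => ⟨hA.ge hw.1, fun h => hI.le ((Scheme.IdealSheafData.support_pow I n hn0.ne').le
        (Scheme.IdealSheafData.support_antitone le_sup_right h)) hw.2⟩)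
      (Zo.ι ⁻¹' ((fun z => (pullback.fst q c) z) ⁻¹' (U : Set X₂)))
      (fun t ht => by
        have e : O.ι (π' t) = pullback.fst q c (Zo.ι t) := by
          rw [← Scheme.Hom.comp_apply, morphismRestrict_ι, Scheme.Hom.comp_apply]
        refine ⟨?_, fun h => ?_⟩
        · rw [← SetLike.mem_coe, Scheme.IdealSheafData.coe_support_vanishingIdeal]
          exact subset_closure (show O.ι (π' t) ∈ U from e ▸ ht)
        · refine hI.le ((Scheme.IdealSheafData.support_pow I n hn0.ne').le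
            (Scheme.IdealSheafData.support_antitone le_sup_right h)) ?_
          rw [← Scheme.Hom.comp_apply, hsq, Scheme.Hom.comp_apply]
          change q (O.ι (π' t)) ∈ V₁
          rw [e]
          exact hU ht)
    have hzT' : (⟨z, hzo⟩ : Zo.toScheme) ∈ closure (Zo.ι ⁻¹' ((fun z => (pullback.fst q c) z) ⁻¹' (U : Set X₂))) := by
      rw [← Zo.ι.isOpenEmbedding.isOpenMap.preimage_closure_eq_closure_preimage Zo.ι.continuous]
      exact hzT
    exact key.le ⟨hzS, hzT'⟩

end Groth.Agent.H98Strict
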