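import Groth.Agent.MP99.Basic
import Groth.Agent.Div89.Cartier

/-!
Closures that are pulled apart by making an ideal invertible.
-/

universe u

open CategoryTheory CategoryTheory.Limits AlgebraicGeometry TopologicalSpace

namespace Groth.Agent.H98Strict

set_option maxHeartbeats 400000
set_option backward.isDefEq.respectTransparency.types false

theorem germ_mem_of_mem_support {Y : Scheme.{u}} (J : Y.IdealSheafData) (U : Y.affineOpens) {y : Y}
    (hy : y ∈ U.1) (hJ : y ∈ J.support) {a : Γ(Y, U.1)} (ha : a ∈ J.ideal U) :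
    (Y.presheaf.germ U.1 y hy).hom a ∈ IsLocalRing.maximalIdeal (Y.presheaf.stalk y) := by
  by_contra h
  refine (Scheme.mem_zeroLocus_iff _ _ _).1
    ((Scheme.IdealSheafData.mem_support_iff_of_mem hy).1 hJ) a ha ?_
  exact (Y.mem_basicOpen a y hy).2 (IsLocalRing.notMem_maximalIdeal.1 h)

theorem isUnit_generator {Y : Scheme.{u}} (J : Y.IdealSheafData) (U : Y.affineOpens) {y : Y}
    (hy : y ∈ U.1) (hJ : y ∉ J.support) {e : Γ(Y, U.1)} (he : J.ideal U = Ideal.span {e}) :
    IsUnit ((Y.presheaf.germ U.1 y hy).hom e) := by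
  by_contra h
  refine hJ ((Scheme.IdealSheafData.mem_support_iff_of_mem hy).2 ?_)
  refine (Scheme.mem_zeroLocus_iff _ _ _).2 fun a ha hya => h ?_
  change a ∈ J.ideal U at ha
  rw [he, Ideal.mem_span_singleton'] at ha
  obtain ⟨c, rfl⟩ := ha
  have h2 := (Y.mem_basicOpen _ y hy).1 hya
  rw [map_mul] at h2
  exact isUnit_of_mul_isUnit_right h2

variable {X X' Z Z' : Scheme.{u}}

/-- If `K` and `A` together contain the ideal `𝔞` on `Z`, then after making `𝔞` invertible the closure of a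
set over `V(A) \ V(𝔞)` and the closure of a set over `V(K) \ V(𝔞)` are disjoint. -/
theorem inter_closure_eq_empty (p : Z ⟶ X) (π : X' ⟶ X) (p' : Z' ⟶ X') (π' : Z' ⟶ Z)
    (hsq : p' ≫ π = π' ≫ p) (𝔞 A : X.IdealSheafData) (K : Z.IdealSheafData) (hA : A ≤ 𝔞)
    (hle : 𝔞.comap p ≤ A.comap p ⊔ K) (hE : BlowUp.IsEffCartierIdeal (𝔞.comap π))
    (S : Set X') (hS : ∀ w ∈ S, π w ∈ A.support ∧ π w ∉ 𝔞.support)
    (T : Set Z') (hT : ∀ t ∈ T, π' t ∈ K.support ∧ π (p' t) ∉ 𝔞.support) :
    p' ⁻¹' closure S ∩ closure T = ∅ := by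
  refine Set.eq_empty_iff_forall_notMem.2 fun z ⟨hzS, hzT⟩ => ?_
  obtain ⟨W, hxW, e, -, heW⟩ := hE (p' z)
  obtain ⟨R, hzR, hR⟩ := Div89.exists_affine_le (show z ∈ p' ⁻¹ᵁ W.1 from hxW)
  have eR : R.1 ≤ p' ⁻¹ᵁ W.1 := hR
  set φ := (p'.appLE W.1 R.1 eR).hom
  set γ := (Z'.presheaf.germ R.1 z hzR).hom
  -- on `R` the pulled back generator lies in `m·e + K`
  have hεR : ((𝔞.comap π).comap p').ideal R = Ideal.span {φ e} := by
    rw [MP99.ideal_comap _ p' W R eR, heW, Ideal.map_span, Set.image_singleton]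
  have hKle : (𝔞.comap π).comap p' ≤ (A.comap π).comap p' ⊔ K.comap π' := by
    simp only [← Scheme.IdealSheafData.comap_comp, hsq]
    rw [Scheme.IdealSheafData.comap_comp, Scheme.IdealSheafData.comap_comp _ π', ← Scheme.IdealSheafData.comap_sup]
    exact (Scheme.IdealSheafData.map_gc π').monotone_l hle
  have hAR : ((A.comap π).comap p').ideal R ≤
      (IsLocalRing.maximalIdeal (Z'.presheaf.stalk z)).comap γ * Ideal.span {φ e} := by
    rw [MP99.ideal_comap _ p' W R eR, Ideal.map_le_iff_le_comap]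
    intro a ha
    have ha' : a ∈ (𝔞.comap π).ideal W := (Scheme.IdealSheafData.map_gc π).monotone_l hA W ha
    rw [heW, Ideal.mem_span_singleton'] at ha'
    obtain ⟨j, rfl⟩ := ha'
    have hj : p' z ∉ X'.basicOpen j := by
      intro hj
      obtain ⟨w, hwj, hwS⟩ := mem_closure_iff.1 hzS _ (X'.basicOpen j).2 hj
      have hwW : w ∈ W.1 := X'.basicOpen_le j hwj
      have hwA : w ∈ (A.comap π).support := by
        rw [Scheme.IdealSheafData.support_comap]; exact (hS w hwS).1
      have h1 := germ_mem_of_mem_support _ W hwW hwA ha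
      have h2 : IsUnit ((X'.presheaf.germ W.1 w hwW).hom e) := isUnit_generator _ W hwW (by
        rw [Scheme.IdealSheafData.support_comap]; exact (hS w hwS).2) heW
      rw [map_mul] at h1
      exact (IsLocalRing.mem_maximalIdeal _).1 h1 (((X'.mem_basicOpen j w hwW).1 hwj).mul h2)
    rw [Ideal.mem_comap, map_mul]
    refine Ideal.mul_mem_mul ?_ (Ideal.mem_span_singleton_self _)
    rw [Ideal.mem_comap]
    by_contra hn
    have hz2 : z ∈ Z'.basicOpen (φ j) := (Z'.mem_basicOpen _ z hzR).2 (IsLocalRing.notMem_maximalIdeal.1 hn)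
    have hb : Z'.basicOpen (φ j) ≤ p' ⁻¹ᵁ X'.basicOpen j := by
      rw [Scheme.preimage_basicOpen]
      simp only [φ, Scheme.Hom.appLE, CommRingCat.comp_apply]
      rw [Scheme.basicOpen_res]
      exact inf_le_right
    exact hj (hb hz2)
  have hε : φ e ∈ ((A.comap π).comap p').ideal R ⊔ (K.comap π').ideal R := by
    have h := hKle R (hεR.ge (Ideal.mem_span_singleton_self _))
    rw [Scheme.IdealSheafData.ideal_sup] at h
    exact h
  obtain ⟨a, ha, b, hb, hab⟩ := Submodule.mem_sup.1 hε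
  obtain ⟨m, hm, rfl⟩ := Ideal.mem_mul_span_singleton.1 (hAR ha)
  have hu : z ∈ Z'.basicOpen (1 - m) := by
    refine (Z'.mem_basicOpen _ z hzR).2 ?_
    rw [map_sub, map_one]
    exact IsLocalRing.isUnit_one_sub_self_of_mem_nonunits _ hm
  obtain ⟨t, htu, htT⟩ := mem_closure_iff.1 hzT _ (Z'.basicOpen (1 - m)).2 hu
  have htR : t ∈ R.1 := Z'.basicOpen_le _ htu
  have h1 : (Z'.presheaf.germ R.1 t htR).hom b ∈ IsLocalRing.maximalIdeal _ :=
    germ_mem_of_mem_support _ R htR (by rw [Scheme.IdealSheafData.support_comap]; exact (hT t htT).1) hb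
  have h2 : IsUnit ((Z'.presheaf.germ R.1 t htR).hom (φ e)) := isUnit_generator _ R htR (by
    rw [Scheme.IdealSheafData.support_comap, Scheme.IdealSheafData.support_comap]
    exact (hT t htT).2) hεR
  have h3 : b = (1 - m) * φ e := by rw [sub_mul, one_mul]; exact eq_sub_of_add_eq' hab
  rw [h3, map_mul] at h1
  exact (IsLocalRing.mem_maximalIdeal _).1 h1 (((Z'.mem_basicOpen _ t htR).1 htu).mul h2)

end Groth.Agent.H98Strict
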