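import Groth.Prelude.Def_BlowUp2
import Groth.Agent.MP99.Basic
import Groth.Agent.Div89.Cartier

/-!
Strict transforms of closed subschemes: the exceptional ideal is never generated by a section vanishing on them.
-/

universe u

open CategoryTheory CategoryTheory.Limits AlgebraicGeometry TopologicalSpace

namespace Groth.Agent.H98Strict

set_option backward.isDefEq.respectTransparency.types false

variable {X X' Yt : Scheme.{u}}

theorem nontrivial_of_mem {U : X.Opens} {x : X} (hx : x ∈ U) : Nontrivial Γ(X, U) :=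
  (X.presheaf.germ U x hx).hom.domain_nontrivial

/-- The exceptional ideal is not generated near the strict transform of `V(I)` by a section of `I`. -/
theorem ideal_ne_span (I K : X.IdealSheafData) (b : X' ⟶ X) (b' : Yt ⟶ I.subscheme)
    (hE : BlowUp.IsEffCartierIdeal ((K.comap I.subschemeι).comap b'))
    (k : Yt ⟶ X') (hk : k ≫ b = b' ≫ I.subschemeι)
    (V : X.affineOpens) (s : Γ(X, V.1)) (hs : s ∈ I.ideal V)
    (V' : X'.affineOpens) (hV' : V'.1 ≤ b ⁻¹ᵁ V.1) (y : Yt) (hy : k y ∈ V'.1) :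
    (K.comap b).ideal V' ≠ Ideal.span {(b.appLE V.1 V'.1 hV').hom s} := by
  intro heq
  obtain ⟨W, hyW, f, hf, hfW⟩ := hE y
  obtain ⟨W', hy', hW'⟩ := Div89.exists_affine_le (show y ∈ W.1 ⊓ k ⁻¹ᵁ V'.1 from ⟨hyW, hy⟩)
  have h1 : W' ≤ W := fun z hz => (hW' hz).1
  have e : W'.1 ≤ k ⁻¹ᵁ V'.1 := fun z hz => (hW' hz).2
  have : Nontrivial Γ(Yt, W'.1) := nontrivial_of_mem hy'
  have h2 := MP99.ideal_restrict _ h1 hfW
  have hnz := MP99.map_mem_nonZeroDivisors h1 hf
  have h0 : (k.appLE V'.1 W'.1 e).hom ((b.appLE V.1 V'.1 hV').hom s) = 0 := by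
    rw [← CommRingCat.comp_apply, Scheme.Hom.appLE_comp_appLE]
    have e' : W'.1 ≤ (b' ≫ I.subschemeι) ⁻¹ᵁ V.1 := by
      rw [← hk]; exact fun z hz => hV' (e hz)
    have h : ∀ (g : Yt ⟶ X) (eg : W'.1 ≤ g ⁻¹ᵁ V.1), g = b' ≫ I.subschemeι → (g.appLE V.1 W'.1 eg).hom s = 0 := by
      rintro g eg rfl
      rw [Scheme.Hom.comp_appLE, CommRingCat.comp_apply]
      have hz : (I.subschemeι.app V.1).hom s = 0 := by
        rw [← RingHom.mem_ker, Scheme.IdealSheafData.ker_subschemeι_app]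
        exact hs
      rw [hz, map_zero]
    exact h _ _ hk
  rw [← Scheme.IdealSheafData.comap_comp, ← hk, Scheme.IdealSheafData.comap_comp,
    MP99.ideal_comap _ k V' W' e, heq, Ideal.map_span, Set.image_singleton, h0,
    Ideal.span_singleton_zero, eq_comm, Ideal.span_singleton_eq_bot] at h2
  exact nonZeroDivisors.ne_zero hnz h2

/-- Near every point the sum of ideals pulled back to its blow-up is generated by a section of one of them. -/
theorem exists_span_eq {ι : Type*} (J : ι → X.IdealSheafData) (b : X' ⟶ X)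
    (hb : BlowUp.IsEffCartierIdeal ((⨆ i, J i).comap b)) (x : X') :
    ∃ (i : ι) (V : X.affineOpens) (s : Γ(X, V.1)), s ∈ (J i).ideal V ∧
      ∃ (V' : X'.affineOpens) (hV' : V'.1 ≤ b ⁻¹ᵁ V.1), x ∈ V'.1 ∧
        ((⨆ i, J i).comap b).ideal V' = Ideal.span {(b.appLE V.1 V'.1 hV').hom s} := by
  obtain ⟨W₀, hxW₀, e₀, he₀, heW₀⟩ := hb x
  obtain ⟨_, ⟨V₀, hV₀, rfl⟩, hxV, -⟩ :=
    X.isBasis_affineOpens.exists_subset_of_mem_open (Set.mem_univ (b x)) isOpen_univ
  let V : X.affineOpens := ⟨V₀, hV₀⟩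
  obtain ⟨W, hxW, hW⟩ := Div89.exists_affine_le (show x ∈ W₀.1 ⊓ b ⁻¹ᵁ V.1 from ⟨hxW₀, hxV⟩)
  have hle : W ≤ W₀ := fun z hz => (hW hz).1
  have eW : W.1 ≤ b ⁻¹ᵁ V.1 := fun z hz => (hW hz).2
  set φ := (b.appLE V.1 W.1 eW).hom
  set e := (X'.presheaf.map (homOfLE (show W.1 ≤ W₀.1 from hle)).op).hom e₀
  have he : e ∈ nonZeroDivisors Γ(X', W.1) := MP99.map_mem_nonZeroDivisors hle he₀
  have heW := MP99.ideal_restrict _ hle heW₀
  set T : Set Γ(X', W.1) := {t | ∃ i, ∃ s ∈ (J i).ideal V, φ s = t}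
  have hT : Ideal.span T = Ideal.span {e} := by
    refine Eq.trans ?_ heW
    rw [MP99.ideal_comap _ b V W eW, Scheme.IdealSheafData.ideal_iSup, iSup_apply, Ideal.map_iSup]
    refine le_antisymm (Ideal.span_le.2 ?_) (iSup_le fun i => ?_)
    · rintro _ ⟨i, s, hs, rfl⟩
      exact le_iSup (fun j => Ideal.map φ ((J j).ideal V)) i (Ideal.mem_map_of_mem φ hs)
    · rw [Ideal.map_le_iff_le_comap]
      exact fun s hs => Ideal.subset_span ⟨i, s, hs, rfl⟩
  set D : Set Γ(X', W.1) := {d | d * e ∈ T}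
  have hD : Ideal.span D = ⊤ := by
    have h1 : T ⊆ ↑((Ideal.span D) * Ideal.span {e}) := fun t ht => by
      obtain ⟨d, rfl⟩ := Ideal.mem_span_singleton'.1 (hT.le (Ideal.subset_span ht))
      exact Ideal.mul_mem_mul (Ideal.subset_span ht) (Ideal.mem_span_singleton_self e)
    obtain ⟨r, hr, hre⟩ := Ideal.mem_mul_span_singleton.1
      ((Ideal.span_le.2 h1) (hT.ge (Ideal.mem_span_singleton_self e)))
    rw [Ideal.eq_top_iff_one]
    have : r = 1 := by
      have h2 : (r - 1) * e = 0 := by rw [sub_mul, hre, one_mul, sub_self]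
      exact sub_eq_zero.1 ((mem_nonZeroDivisors_iff_right.1 he) _ h2)
    exact this ▸ hr
  obtain ⟨d, hd, hxd⟩ : ∃ d ∈ D, x ∈ X'.basicOpen d := by
    by_contra! hno
    have h2 : (Ideal.span D) ≤ (IsLocalRing.maximalIdeal (X'.presheaf.stalk x)).comap
        (X'.presheaf.germ W.1 x hxW).hom := by
      refine Ideal.span_le.2 fun d hd => ?_
      by_contra hn
      exact hno d hd ((X'.mem_basicOpen d x hxW).2 (IsLocalRing.notMem_maximalIdeal.1 hn))
    rw [hD, top_le_iff] at h2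
    exact Ideal.IsPrime.ne_top inferInstance h2
  obtain ⟨i, s, hs, hst⟩ := hd
  let W' : X'.affineOpens := X'.affineBasicOpen d
  have hW'W : W' ≤ W := X'.basicOpen_le d
  refine ⟨i, V, s, hs, W', fun z hz => eW (hW'W hz), hxd, ?_⟩
  rw [MP99.ideal_restrict _ hW'W heW,
    show (b.appLE V.1 W'.1 _).hom s = (X'.presheaf.map (homOfLE (show W'.1 ≤ W.1 from hW'W)).op).hom (φ s) by
      rw [← CommRingCat.comp_apply, Scheme.Hom.appLE_map], hst, map_mul]
  refine (Ideal.span_singleton_mul_left_unit ?_ _).symm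
  have h := RingedSpace.isUnit_res_basicOpen X'.toLocallyRingedSpace.toRingedSpace d
  exact h

end Groth.Agent.H98Strict
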